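import Mathlib
import Cfsg.Prelude.Def_KGroupFacts
import Cfsg.Agent.Lib.Helper7.HS100
import Cfsg.Agent.Lib.Helper89.OrbitLB
import Cfsg.Agent.Lib.Helper89.SafePres
import Cfsg.Agent.Lib.Helper93.BigPerm

/-!
# Explicit generators of the Higman-Sims group on the 100 vertices of its graph

Letters `0..7`: four generators `a, b, c, d` of order three with `⟨a,b⟩ = SL(2,5)`,
`⟨a,b,c⟩ = U(3,5)`, `⟨a,b,c,d⟩ = HS`; letters `8..15`: auxiliary elements `x, y` (commuting, order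
three), `u` (order 7), `v` (order 11) with `u * v` an involution inverting `x` and centralising `y`.
-/

set_option autoImplicit false
set_option maxRecDepth 1000000
set_option maxHeartbeats 0

namespace Cfsg.Agent.Lib.Helper7.HSM.HSG

open Cfsg Cfsg.Agent.Lib.Helper7 Cfsg.Agent.Lib.Helper7.HS100
open Cfsg.Agent.Lib.Helper89.TableChain2 Cfsg.Agent.Lib.Helper89.OrbitLB
open Cfsg.Agent.Lib.Helper89.CosetCert Cfsg.Agent.Lib.Helper89.SafePres
open Cfsg.Agent.Lib.Helper93.BigPerm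

/-- the sixteen packed tables (7 bits per point) -/
abbrev HX : Model := ⟨100, 8, 7, 127, [
  0x8436a02bf58fd08b1f014af113852664f28118ad9a794a48e5ce26de121969296c4bbf768402c6e9665355554af03683c65631f5c64890437254e3616768ba36d65182cf530468460481e42733bb3d20a838f0d80765823,
  0xd382d9bf105a89ab8104af799616928edc14362b57e66490b4b2dd6498c39178a4b4b76711c66e80d13189df01611e0b856cd8d0aa55b090099d25bb44f2137329187a5d158a70090e1f2312a3e221cf5b0aa1407817b9,
  0xc31a260874539316a67a20806ad73a501a6392efcc8b031008f267639b2a4427f74d2572088092262db4a0e15b0a4816bd2edc6997cccb2e0e785246d6095942b079f62f0aaf0b4d53b508ed566a6d93a1c1ae54bc20641,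
  0x89271e09a0df056a34e1ea832a8424bef33b3161cc9d0a3418f8a5e1bf0004a7e9d6162021db2547c5b44c24bb0289169a6246d0fbb41e201d60dae308a9cf14f54365694ad2b875bb9321d481b685c0246189d7a2eab48,
  0xc7319dc734238c20feb211416ae14c4c0c436f2ebe96ded809ada75e7ad1c3a6b88bc5903c6891082d30a8c4fc2a6692ac46a87285cbcb2416881c6655cacf389c32986b4a1d0944cc98062fe0567a0ca0e46cd2b00893b,
  0xc6faa0c1b126e092d42833d66ab35e1095e39163e2962083bba81e502ec048fb5321ce0102fc19519fc2c27d9344c9cb2c16a8c28354d6a4568ac366228a1b9eb888e7a94e95a40435b74a5cdc475dc370e66b13420a8c8,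
  0x978a56089860df8b1a6c89cfe3c08527180862c150a3786225605bdc10a9f12477449a4a45c90b69c9b430298bd1cc81bbab4c39d4cd9616ad61e383ecc2ba3685a9e2e5522f3350e205a514d2aeb984f1a194041f66d4c,
  0xa38af60b929f446e04122168d59254325cc115ec80c786958ab6addf9f4eed4ad058215871ca08a98cb43cb988928287a58f086856c9dd957f20d103e6141136f09b32e90b0e6b01d3806bc3c99cc9ec35218e845b36350,
  0x5f71d0510a993cbcec30e5158da3a630ad46b3a5587c3c0c38e9ab996d80207c6b9ee200c582bb32162d92970a97f2c5cf216dcc54e92ec6a062920be5089c2f44689ab04d133c481b89b32221690111f14de1163a099da,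
  0x7ef18c23f6d2e25401bcc8b58bd0a684d23593878e5d359b68e9140d9014b0a5f2dedcb5854900d0e78b0375d39c6f9a3571798574f19926a824620104c19caa56222361289e2848eab9560cd25a1cc5f8167041220a4bb,
  0x86f991f89714aec4026b8af1eaa340890d45f3859054d26354e9a2855820196916decbb4970811f3df861ce6eba6d79be366f18a8ac91846a05449c1a4c553363211a2e4691e284a0495aaf018b212899832af9d0e0ac3b,
  0x596dc8d0ab98de7cec581ae9ead038544a36d3acc9781883fac922dfc6643916b89eaa00c19585abe44a57854a59f707c31d2eea88f19d26a94a8d3c050220366040c2f011133c48b4c6eccf9a9a750c206d220a8209c5a,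
  0x82293119d0184fba3ece3660c258904126168dd5c64afc3ca025989d6d31cac1749062445d4b8352d680a2bc6212571e4d0d4caaa7471dbe1c6eaaebd25a9886cadda128ea054f7e2d7a02011451123c21a7f0193d589bd,
  0xb0f2805247edae3262cd4200909554f998fb97d6426d20f53133088a36231de949002d4a9e0b89d0cecfae6a2dd6481ac09aa1c8b27865d12ced83d0c0e22644dc21c751948c02bf052b48c3b17f88b8e92aca55ac363b4,
  0x358a02961599498986a5942a88030418a0c8a01c2b8d4a7dd7a9511782dd02d9756fde9874dac46e539e6b62e53b78ebd0b5821ba4c62534021c9097c54c932220e0416d828f2c354489b39d8e8ef05315d099a43ebdfd1,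
  0x5d8ad2a7af24315eaec325b79f59612802c92387bb7e96e10172e7db521a1e1027e38a1aa1b4d84599a40b7445f041e038995b0116a9e3046f16bc106d1d19738cea6884cf513884dd528309502e2501a4548a98a94d1ce]⟩

theorem HX_ok : HX.ok = true := by decide +kernel

/-- the generators as permutations of `Fin 100` -/
def gp (i : ℕ) : Equiv.Perm (Fin 100) := Model.gm HX_ok i

theorem gp_val (i : ℕ) (hi : i < 8) (p : Fin 100) : ((gp i) p).val = HX.tab (2 * i) p.val := by
  unfold gp Model.gm Model.perm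
  rw [dif_pos (show 2 * i < 2 * HX.k by show 2 * i < 2 * 8; omega)]
  rfl

theorem gp_eq_one (i : ℕ) (hi : 8 ≤ i) : gp i = 1 := by
  unfold gp Model.gm Model.perm
  rw [dif_neg (show ¬ 2 * i < 2 * HX.k by show ¬ 2 * i < 2 * 8; omega)]

/-- adjacency on indices -/
def adjN (x y : ℕ) : Bool :=
  adjD (hsV.getD x 0) (hsV.getD y 0) || adjD (hsV.getD y 0) (hsV.getD x 0)

theorem adjT_eq (i j : Fin 100) : adjT i j = adjN i.val j.val := rfl

/-- the letter `l` preserves adjacency -/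
def autOK (l : ℕ) : Bool :=
  (List.range 100).all fun x => (List.range 100).all fun y =>
    adjN (HX.tab l x) (HX.tab l y) == adjN x y

theorem autOK_all : (List.range 8).all (fun i => autOK (2 * i)) = true := by decide +kernel

theorem gp_aut (i : ℕ) (hi : i < 8) (p q : Fin 100) : adjT (gp i p) (gp i q) = adjT p q := by
  rw [adjT_eq, adjT_eq, gp_val i hi, gp_val i hi]
  have h := autOK_all
  rw [List.all_eq_true] at h
  have h1 := h i (List.mem_range.2 hi)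
  unfold autOK at h1
  rw [List.all_eq_true] at h1
  have h2 := h1 p.val (List.mem_range.2 p.2)
  rw [List.all_eq_true] at h2
  exact beq_iff_eq.1 (h2 q.val (List.mem_range.2 q.2))

/-- the orders of the eight elements -/
def ordp (i : ℕ) : ℕ := [3, 3, 3, 3, 3, 3, 7, 11].getD i 1

def powRels : List Word :=
  [powWord 3 0, powWord 3 1, powWord 3 2, powWord 3 3, powWord 3 4, powWord 3 5, powWord 7 6,
    powWord 11 7]

theorem powRels_ok : HX.relsOK powRels = true := by decide +kernel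

theorem gp_pow (i : ℕ) : gp i ^ ordp i = 1 := by
  by_cases h : i < 8
  · have hv := Model.relsOK_valid HX_ok powRels powRels_ok
    interval_cases i
    · have := hv (powWord 3 0) (by simp [powRels])
      rwa [ev_powWord] at this
    · have := hv (powWord 3 1) (by simp [powRels])
      rwa [ev_powWord] at this
    · have := hv (powWord 3 2) (by simp [powRels])
      rwa [ev_powWord] at this
    · have := hv (powWord 3 3) (by simp [powRels])
      rwa [ev_powWord] at this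
    · have := hv (powWord 3 4) (by simp [powRels])
      rwa [ev_powWord] at this
    · have := hv (powWord 3 5) (by simp [powRels])
      rwa [ev_powWord] at this
    · have := hv (powWord 7 6) (by simp [powRels])
      rwa [ev_powWord] at this
    · have := hv (powWord 11 7) (by simp [powRels])
      rwa [ev_powWord] at this
  · rw [gp_eq_one i (by omega), one_pow]

theorem ordp_odd (i : ℕ) : Odd (ordp i) := by
  by_cases h : i < 8
  · interval_cases i <;> decide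
  · unfold ordp
    rw [List.getD_eq_default _ _ (by simp; omega)]
    exact odd_one

theorem gp_mem (i : ℕ) : gp i ∈ HS100 := by
  by_cases h : i < 8
  · exact mem_HS100_of_odd (gp i) (gp_aut i h) (ordp i) (ordp_odd i) (gp_pow i)
  · rw [gp_eq_one i (by omega)]
    exact HS100.one_mem

/-- the generators in the model group -/
def gH (i : ℕ) : ↥HS100 := ⟨gp i, gp_mem i⟩

/-- a fixed isomorphism -/
noncomputable def eHS : ↥Cfsg.Spor.HS ≃* ↥HS100 := Classical.choice nonempty_equiv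

/-- the generators in `HS` -/
noncomputable def g (i : ℕ) : ↥Cfsg.Spor.HS := eHS.symm (gH i)

/-- the faithful permutation representation -/
noncomputable def phi : ↥Cfsg.Spor.HS →* Equiv.Perm (Fin 100) :=
  HS100.subtype.comp eHS.toMonoidHom

theorem phi_injective : Function.Injective phi := by
  intro a b h
  have h1 : (eHS a : Equiv.Perm (Fin 100)) = eHS b := h
  exact eHS.injective (Subtype.ext h1)

theorem phi_g (i : ℕ) : phi (g i) = gp i := by
  show ((eHS (eHS.symm (gH i)) : ↥HS100) : Equiv.Perm (Fin 100)) = gp i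
  rw [MulEquiv.apply_symm_apply]
  rfl

theorem phi_ev (w : Word) : phi (ev g w) = ev gp w := by
  rw [ev_map_hom]
  congr 1
  funext i
  exact phi_g i

theorem ev_eq_one_iff (w : Word) : ev g w = 1 ↔ ev gp w = 1 := by
  rw [← phi_ev]
  constructor
  · intro h
    rw [h, map_one]
  · intro h
    exact phi_injective (by rw [h, map_one])

theorem relsOK_valid (rs : List Word) (h : HX.relsOK rs = true) : ∀ r ∈ rs, ev g r = 1 :=
  fun r hr => (ev_eq_one_iff r).2 (Model.relsOK_valid HX_ok rs h r hr)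

theorem ev_ne_one (w : List ℕ) (hw : ∀ c ∈ w, c < 16) (x : ℕ) (hx : x < 100)
    (h : act HX.tab w x ≠ x) : ev g w ≠ 1 := fun h1 =>
  Model.ev_ne_one HX_ok w hw x hx h ((ev_eq_one_iff w).1 h1)

instance finite_HS : Finite ↥Cfsg.Spor.HS := Finite.of_equiv ↥HS100 eHS.symm.toEquiv

theorem card_HS : Nat.card ↥Cfsg.Spor.HS = 44352000 := by
  rw [Nat.card_congr eHS.toEquiv, card_HS100]

theorem g_eq_one (i : ℕ) (hi : 8 ≤ i) : g i = 1 := by
  apply phi_injective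
  rw [phi_g, gp_eq_one i hi, map_one]

/-! ### generation -/

/-- the action data on the first eight letters -/
def D8 : Data (Equiv.Perm (Fin 100)) (Fin 100) where
  m := 8
  N := 100
  gen := lv gp
  pt := Model.pt HX_ok
  tab := HX.tab
  chk := List.range 100
  gen_smul := fun j hj x hx => Model.lv_smul HX_ok j (by show j < 2 * 8; omega) x hx
  tab_lt := fun j hj x hx => Model.tab_lt_of_ok HX_ok (by show j < 2 * 8; omega) hx
  chk_lt := fun x hx => List.mem_range.1 hx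
  faithful := (Model.D HX_ok).faithful
  pt_inj := (Model.D HX_ok).pt_inj

def W0 : List (List ℕ) := [
  [],
  [2, 6, 0],
  [0, 5, 1, 7],
  [3, 5, 7],
  [1, 7, 3],
  [3, 1, 7],
  [1, 2, 4, 7],
  [1, 2],
  [5, 7, 5, 7],
  [5, 2],
  [2, 4, 7, 3],
  [4, 0],
  [1, 3, 7],
  [4, 1],
  [0, 3],
  [3, 0, 7],
  [1, 3],
  [3, 0, 3, 7],
  [2, 6, 0, 7],
  [2, 1, 7],
  [0, 7, 3],
  [0, 6, 3],
  [2, 6, 4],
  [2, 5, 0],
  [4, 0, 3],
  [2, 0, 7],
  [0, 6],
  [3, 4, 7, 3],
  [0, 4, 7, 3],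
  [6, 0, 7],
  [2, 6, 3],
  [0, 7, 2],
  [0, 6, 4],
  [4, 7, 3],
  [6, 3],
  [0],
  [0, 5, 2],
  [6, 4],
  [2, 7],
  [2, 7, 2],
  [0, 7],
  [1, 4, 6],
  [0, 3, 7],
  [5, 0],
  [7, 4],
  [0, 2],
  [5, 0, 6],
  [4, 2, 7],
  [6, 5, 2],
  [0, 4, 6],
  [2, 5, 2],
  [3, 7],
  [0, 2, 1, 7],
  [1, 6],
  [1, 6, 4],
  [2, 0, 3, 7],
  [4, 2],
  [1],
  [1, 4, 7, 3],
  [4],
  [1, 7, 0],
  [2, 7, 4],
  [4, 6],
  [7, 0],
  [2, 7, 5, 7],
  [2],
  [0, 2, 4, 7],
  [1, 5, 2],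
  [4, 7],
  [0, 2, 1, 6],
  [0, 7, 4],
  [4, 7, 2],
  [3],
  [3, 5, 6],
  [7, 5, 7],
  [0, 7, 0],
  [6],
  [3, 5, 1],
  [0, 4, 1],
  [2, 5, 6, 0],
  [7],
  [2, 5, 7],
  [0, 7, 5, 7],
  [5, 2, 7],
  [4, 3, 7],
  [6, 5, 0],
  [6, 0],
  [6, 4, 0],
  [7, 3],
  [5, 6, 0],
  [2, 4, 1],
  [2, 1, 6],
  [1, 7],
  [7, 2],
  [5, 7],
  [5, 1],
  [5, 1, 7],
  [3, 4, 7],
  [5, 6],
  [2, 4, 7]]

theorem lb0 : lbCheck HX.tab 8 [] 0 W0 = true := by decide +kernel

def W1 : List (List ℕ) := [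
  [],
  [5, 1, 5, 3],
  [2, 5],
  [0, 7, 1],
  [4, 3],
  [5, 0, 4],
  [7, 3, 6],
  [0, 2, 5, 3],
  [6, 5, 0, 6, 0],
  [2, 5, 2, 5],
  [5, 6, 2, 0, 6],
  [2, 1, 3, 0],
  [7, 2, 6],
  [1, 7, 1, 4, 7],
  [5, 1, 4],
  [0, 6, 1],
  [2, 1, 2, 1, 2],
  [5, 2, 1, 3],
  [0, 2, 4],
  [3, 0, 2, 0],
  [5, 3, 1],
  [5, 6, 5, 7, 4]]

theorem lb1 : lbCheck HX.tab 8 [0] 1 W1 = true := by decide +kernel

def W2 : List (List ℕ) := [
  [],
  [4, 0, 3, 4],
  [3, 1, 5, 6, 4],
  [0, 4, 0, 5, 7, 1],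
  [5, 0, 4, 2, 4, 0, 4],
  [5, 1, 6, 4, 7, 4],
  [3, 0, 5, 1, 2],
  [6, 1, 2, 6, 3, 5, 7],
  [1, 3, 1, 6, 2, 6, 2],
  [4, 7, 4, 6, 5],
  [5, 0, 3, 6, 2, 4],
  [0, 4, 7, 4, 7],
  [5, 7, 4, 0, 2],
  [5, 7, 1, 6, 3, 4],
  [4, 3, 6, 4, 1, 6, 0],
  [7, 4, 7, 4, 6, 2],
  [0, 5, 6, 5, 1, 2],
  [0, 6, 4, 1, 5, 1],
  [2, 5, 2, 4, 3, 7, 1],
  [4, 7, 5, 6, 5],
  [0, 5, 6, 1, 2]]

theorem lb2 : lbCheck HX.tab 8 [1, 0] 2 W2 = true := by decide +kernel

def W3 : List (List ℕ) := [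
  [],
  [6, 1, 3, 6, 2, 1, 7],
  [2, 6, 4, 1, 5, 7, 3],
  [6, 4, 2, 1, 6, 1, 2, 0],
  [6, 0, 7, 0, 6, 1, 7],
  [4, 3, 7, 0, 2, 1, 7, 3, 5],
  [0, 4, 0, 5, 1, 5, 3, 7, 1],
  [2, 0, 3, 3, 1, 2, 5],
  [6, 0, 7, 1, 6, 1, 7],
  [4, 3, 0, 3, 1, 3],
  [2, 5, 3, 1, 2, 5, 6, 4],
  [7, 0, 4, 0, 7, 0, 6],
  [5, 7, 1, 6, 1, 5],
  [5, 0, 7, 3, 7, 0, 6, 5],
  [7, 2, 4, 6, 5, 3, 6],
  [4, 0, 7, 0, 6, 4],
  [1, 6, 4, 3, 7, 2, 0],
  [0, 2, 4, 1, 4, 0, 5, 0],
  [0, 7, 4, 1, 4, 0, 5, 6],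
  [1, 3, 6, 2, 5, 7, 0]]

theorem lb3 : lbCheck HX.tab 8 [2, 1, 0] 3 W3 = true := by decide +kernel

def W4 : List (List ℕ) := [
  [],
  [7, 2, 4, 7, 5, 3, 6, 2, 6, 4, 0, 5, 7, 3],
  [6, 0, 3, 7, 2, 0, 7, 4, 0, 2, 7, 2, 1, 4],
  [1, 3, 0, 7, 0, 3, 5, 5, 0, 6, 0, 3, 6, 2, 4, 6],
  [7, 1, 6, 1, 5, 1, 6, 6, 0, 3, 1, 7, 0, 2, 1, 7],
  [7, 2, 6, 1, 4, 1, 4, 3, 1, 6],
  [7, 1, 6, 1, 5, 1, 6, 0, 6, 1, 6, 0, 7, 5, 2, 4],
  [7, 1, 6, 1, 5, 1, 6, 2, 5, 2, 1, 4, 7, 1, 2],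
  [2, 4, 0, 4, 3, 5, 7, 1, 3],
  [1, 4, 1, 5, 0, 5, 3, 1, 2, 4, 0, 7, 4, 1, 3, 0, 3],
  [6, 0, 7, 1, 6, 1, 7, 5, 2, 1, 1, 3, 1, 7, 1],
  [5, 2, 1, 5, 3, 0, 7, 4, 1],
  [5, 7, 4, 3, 0, 0, 5, 7, 4, 7, 1],
  [2, 0, 2, 1, 2, 5, 5, 0, 6, 2, 5, 7, 2, 7],
  [1, 3, 6, 2, 5, 7, 0, 5, 3, 1, 1, 3, 5, 2, 0],
  [4, 3, 0, 2, 2, 1, 3, 6, 5, 0, 2, 4, 7, 5, 1]]

theorem lb4 : lbCheck HX.tab 8 [3, 2, 1, 0] 4 W4 = true := by decide +kernel

def W5 : List (List ℕ) := [
  [],
  [2, 0, 6, 4, 2, 5, 1, 5, 6, 4, 0, 5, 7, 3, 5, 2, 1, 1, 2, 4, 3, 0, 5],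
  [0, 5, 6, 1, 2, 4, 0, 3, 4, 2, 6, 4, 0, 5, 7, 3, 3, 6, 1, 7, 5, 3, 4, 2]]

theorem lb5 : lbCheck HX.tab 8 [4, 3, 2, 1, 0] 5 W5 = true := by decide +kernel


theorem card_H : 44352000 ≤ Nat.card (D8.H D8.m) := by
  have h0 := fixH_level D8 [] 0 (by decide) (by simp) W0 lb0
  have h1 := fixH_level D8 [0] 1 (by decide) (by decide) W1 lb1
  have h2 := fixH_level D8 [1, 0] 2 (by decide) (by decide) W2 lb2
  have h3 := fixH_level D8 [2, 1, 0] 3 (by decide) (by decide) W3 lb3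
  have h4 := fixH_level D8 [3, 2, 1, 0] 4 (by decide) (by decide) W4 lb4
  have h5 := fixH_level D8 [4, 3, 2, 1, 0] 5 (by decide) (by decide) W5 lb5
  have h6 : 0 < Nat.card (fixH D8 [5, 4, 3, 2, 1, 0]) := Nat.card_pos
  rw [fixH_nil] at h0
  have e0 : W0.length = 100 := by decide
  have e1 : W1.length = 22 := by decide
  have e2 : W2.length = 21 := by decide
  have e3 : W3.length = 20 := by decide
  have e4 : W4.length = 16 := by decide
  have e5 : W5.length = 3 := by decide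
  rw [e0] at h0; rw [e1] at h1; rw [e2] at h2; rw [e3] at h3; rw [e4] at h4; rw [e5] at h5
  omega

theorem closure_gp_le : D8.H D8.m ≤ Subgroup.closure {y | ∃ i < 4, y = gp i} := by
  show Subgroup.closure (D8.S 8) ≤ _
  rw [Subgroup.closure_le]
  rintro x ⟨l, hl, rfl⟩
  show lv gp l ∈ _
  unfold lv
  split_ifs
  · exact Subgroup.subset_closure ⟨l / 2, by omega, rfl⟩
  · exact Subgroup.inv_mem _ (Subgroup.subset_closure ⟨l / 2, by omega, rfl⟩)

theorem closure_g : Subgroup.closure {y | ∃ i < 4, y = g i} = ⊤ := by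
  have hmap : (Subgroup.closure {y | ∃ i < 4, y = g i}).map phi =
      Subgroup.closure {y | ∃ i < 4, y = gp i} := map_closure_eq phi 4 g gp phi_g
  have hcard : Nat.card ((Subgroup.closure {y | ∃ i < 4, y = g i}).map phi) =
      Nat.card (Subgroup.closure {y | ∃ i < 4, y = g i}) :=
    Nat.card_congr ((Subgroup.closure {y | ∃ i < 4, y = g i}).equivMapOfInjective phi
      phi_injective).toEquiv.symm
  apply Subgroup.eq_top_of_card_eq
  apply le_antisymm (Subgroup.card_le_card_group _)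
  rw [card_HS, ← hcard, hmap]
  exact le_trans card_H (Subgroup.card_le_of_le closure_gp_le)

/-! ### the four chain generators -/

/-- the four chain generators (trivial beyond the fourth) -/
noncomputable def gk (i : ℕ) : ↥Cfsg.Spor.HS := if i < 4 then g i else 1

theorem gk_eq (i : ℕ) (hi : i < 4) : gk i = g i := by
  unfold gk
  rw [if_pos hi]

theorem gk_eq_one (i : ℕ) (hi : 4 ≤ i) : gk i = 1 := by
  unfold gk
  rw [if_neg (by omega)]

theorem lv_gk (l : ℕ) (hl : l < 8) : lv gk l = lv g l := by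
  have e : gk (l / 2) = g (l / 2) := gk_eq _ (by omega)
  unfold lv
  rw [e]

theorem ev_gk (w : Word) (hw : ∀ l ∈ w, l < 8) : ev gk w = ev g w := by
  induction w with
  | nil => rfl
  | cons l w ih =>
    rw [ev_cons, ev_cons, ih (fun l' hl' => hw l' (List.mem_cons_of_mem _ hl')),
      lv_gk l (hw l List.mem_cons_self)]

theorem closure_gk : Subgroup.closure {y | ∃ i < 4, y = gk i} = ⊤ := by
  have e : {y | ∃ i < 4, y = gk i} = {y | ∃ i < 4, y = g i} := by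
    ext y
    constructor
    · rintro ⟨i, hi, rfl⟩
      exact ⟨i, hi, gk_eq i hi⟩
    · rintro ⟨i, hi, rfl⟩
      exact ⟨i, hi, (gk_eq i hi).symm⟩
  rw [e]
  exact closure_g

/-- the orders of the four generators -/
def ord (i : ℕ) : ℕ := [3, 3, 3, 3].getD i 1

theorem g_pow8 (i : ℕ) : g i ^ ordp i = 1 := by
  apply phi_injective
  rw [map_pow, phi_g, gp_pow, map_one]

theorem gk_pow (i : ℕ) : gk i ^ ord i = 1 := by
  by_cases h : i < 4
  · have := g_pow8 i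
    have e : ordp i = ord i := by interval_cases i <;> rfl
    rw [gk_eq i h, ← e]
    exact this
  · rw [gk_eq_one i (by omega), one_pow]

theorem ord_coprime (i : ℕ) : (ord i).Coprime 64000 := by
  unfold ord
  by_cases h : i < 4
  · interval_cases i <;> decide
  · rw [List.getD_eq_default _ _ (by simp; omega)]
    exact Nat.coprime_one_left 64000

/-- validity test for relators in the first eight letters -/
theorem relsOK_valid_gk (rs : List Word) (h : HX.relsOK rs = true)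
    (h8 : ∀ r ∈ rs, ∀ l ∈ r, l < 8) : ∀ r ∈ rs, ev gk r = 1 := fun r hr => by
  rw [ev_gk r (h8 r hr)]
  exact relsOK_valid rs h r hr

/-! ### elements of order 7 and 11 -/

theorem ev_flatten_replicate (w : Word) (n : ℕ) :
    ev g (List.replicate n w).flatten = ev g w ^ n := by
  induction n with
  | zero => simp
  | succ n ih => rw [List.replicate_succ, List.flatten_cons, ev_append, ih, pow_succ']

def w7 : Word := [0, 4]

def w11 : Word := [0, 2, 6]

theorem w7_pow : HX.relsOK [(List.replicate 7 w7).flatten] = true := by decide +kernel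

theorem w11_pow : HX.relsOK [(List.replicate 11 w11).flatten] = true := by decide +kernel

/-- an element of order 7 -/
noncomputable def x7 : ↥Cfsg.Spor.HS := ev g w7

/-- an element of order 11 -/
noncomputable def x11 : ↥Cfsg.Spor.HS := ev g w11

theorem orderOf_x7 : orderOf x7 = 7 := by
  have : Fact (Nat.Prime 7) := ⟨by norm_num⟩
  apply orderOf_eq_prime
  · show ev g w7 ^ 7 = 1
    rw [← ev_flatten_replicate]
    exact relsOK_valid _ w7_pow _ (List.mem_singleton.2 rfl)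
  · exact ev_ne_one w7 (by decide) 0 (by decide) (by decide +kernel)

theorem orderOf_x11 : orderOf x11 = 11 := by
  have : Fact (Nat.Prime 11) := ⟨by norm_num⟩
  apply orderOf_eq_prime
  · show ev g w11 ^ 11 = 1
    rw [← ev_flatten_replicate]
    exact relsOK_valid _ w11_pow _ (List.mem_singleton.2 rfl)
  · exact ev_ne_one w11 (by decide) 0 (by decide) (by decide +kernel)

/-! ### the elementary abelian subgroup of order nine and an inverting element -/

/-- the relations among `x = g 4`, `y = g 5`, `n = g 6 * g 7` -/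
def auxRels : List Word :=
  [[8, 10, 9, 11], [12, 14, 8, 15, 13, 8], [12, 14, 10, 15, 13, 11]]

theorem auxRels_ok : HX.relsOK auxRels = true := by decide +kernel

theorem x_pow : g 4 ^ 3 = 1 := g_pow8 4

theorem y_pow : g 5 ^ 3 = 1 := g_pow8 5

theorem xy_comm : g 4 * g 5 = g 5 * g 4 := by
  have h := relsOK_valid auxRels auxRels_ok [8, 10, 9, 11] (by simp [auxRels])
  rw [ev_cons, ev_cons, ev_cons, ev_cons, ev_nil, mul_one, show (8 : ℕ) = 2 * 4 from rfl,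
    show (10 : ℕ) = 2 * 5 from rfl, show (9 : ℕ) = 2 * 4 + 1 from rfl,
    show (11 : ℕ) = 2 * 5 + 1 from rfl, lv_two_mul, lv_two_mul, lv_two_mul_add_one,
    lv_two_mul_add_one] at h
  have h2 : g 4 * g 5 = (g 4 * (g 5 * ((g 4)⁻¹ * (g 5)⁻¹))) * (g 5 * g 4) := by group
  rw [h2, h, one_mul]

theorem n_x : (g 6 * g 7) * g 4 * (g 6 * g 7)⁻¹ = (g 4)⁻¹ := by
  have h := relsOK_valid auxRels auxRels_ok [12, 14, 8, 15, 13, 8] (by simp [auxRels])
  rw [ev_cons, ev_cons, ev_cons, ev_cons, ev_cons, ev_cons, ev_nil, mul_one,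
    show (12 : ℕ) = 2 * 6 from rfl, show (14 : ℕ) = 2 * 7 from rfl, show (8 : ℕ) = 2 * 4 from rfl,
    show (15 : ℕ) = 2 * 7 + 1 from rfl, show (13 : ℕ) = 2 * 6 + 1 from rfl,
    lv_two_mul, lv_two_mul, lv_two_mul, lv_two_mul_add_one, lv_two_mul_add_one] at h
  have h2 : (g 6 * g 7) * g 4 * (g 6 * g 7)⁻¹ =
      (g 6 * (g 7 * (g 4 * ((g 7)⁻¹ * ((g 6)⁻¹ * g 4))))) * (g 4)⁻¹ := by group
  rw [h2, h, one_mul]

theorem n_y : (g 6 * g 7) * g 5 * (g 6 * g 7)⁻¹ = g 5 := by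
  have h := relsOK_valid auxRels auxRels_ok [12, 14, 10, 15, 13, 11] (by simp [auxRels])
  rw [ev_cons, ev_cons, ev_cons, ev_cons, ev_cons, ev_cons, ev_nil, mul_one,
    show (12 : ℕ) = 2 * 6 from rfl, show (14 : ℕ) = 2 * 7 from rfl,
    show (10 : ℕ) = 2 * 5 from rfl,
    show (15 : ℕ) = 2 * 7 + 1 from rfl, show (13 : ℕ) = 2 * 6 + 1 from rfl,
    show (11 : ℕ) = 2 * 5 + 1 from rfl,
    lv_two_mul, lv_two_mul, lv_two_mul, lv_two_mul_add_one, lv_two_mul_add_one,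
    lv_two_mul_add_one] at h
  have h2 : (g 6 * g 7) * g 5 * (g 6 * g 7)⁻¹ =
      (g 6 * (g 7 * (g 5 * ((g 7)⁻¹ * ((g 6)⁻¹ * (g 5)⁻¹))))) * g 5 := by group
  rw [h2, h, one_mul]

theorem x_ne : g 4 ≠ 1 := by
  have h := ev_ne_one [8] (by decide) 0 (by decide) (by decide +kernel)
  rwa [ev_cons, ev_nil, mul_one, show (8 : ℕ) = 2 * 4 from rfl, lv_two_mul] at h

theorem y_ne : g 5 ≠ 1 := by
  have h := ev_ne_one [10] (by decide) 0 (by decide) (by decide +kernel)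
  rwa [ev_cons, ev_nil, mul_one, show (10 : ℕ) = 2 * 5 from rfl, lv_two_mul] at h

theorem y_ne_x : g 5 ≠ g 4 := by
  have h := ev_ne_one [10, 9] (by decide) 0 (by decide) (by decide +kernel)
  rw [ev_cons, ev_cons, ev_nil, mul_one, show (10 : ℕ) = 2 * 5 from rfl,
    show (9 : ℕ) = 2 * 4 + 1 from rfl, lv_two_mul, lv_two_mul_add_one] at h
  intro e
  apply h
  rw [e, mul_inv_cancel]

theorem y_ne_xx : g 5 ≠ g 4 ^ 2 := by
  have h := ev_ne_one [10, 8] (by decide) 1 (by decide) (by decide +kernel)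
  rw [ev_cons, ev_cons, ev_nil, mul_one, show (10 : ℕ) = 2 * 5 from rfl,
    show (8 : ℕ) = 2 * 4 from rfl, lv_two_mul, lv_two_mul] at h
  intro e
  apply h
  rw [e, ← pow_succ]
  exact x_pow

end Cfsg.Agent.Lib.Helper7.HSM.HSG
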