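import Mathlib

/-!
# The index of an elementary abelian subgroup of order nine

If `x, y` are commuting elements of order three with `y ∉ ⟨x⟩` in a finite group of order `9 * m`
with `3 ∤ m`, then the index of `⟨x, y⟩` is prime to three.
-/

set_option autoImplicit false

namespace Cfsg.Agent.Lib.Helper7.HSM.IdxNine

variable {G : Type*} [Group G]

theorem pow_three_eq_one_of_mem_closure (x y : G) (hx : x ^ 3 = 1) (hy : y ^ 3 = 1)
    (hxy : x * y = y * x) : ∀ s ∈ Subgroup.closure ({x, y} : Set G), s ^ 3 = 1 := by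
  have hcomm : ∀ a ∈ ({x, y} : Set G), ∀ b ∈ ({x, y} : Set G), a * b = b * a := by
    intro a ha b hb
    rcases ha with rfl | rfl <;> rcases hb with rfl | rfl
    · rfl
    · exact hxy
    · exact hxy.symm
    · rfl
  letI := Subgroup.closureCommGroupOfComm hcomm
  let f : ↥(Subgroup.closure ({x, y} : Set G)) →* ↥(Subgroup.closure ({x, y} : Set G)) :=
    powMonoidHom 3
  have hker : f.ker = ⊤ := by
    rw [eq_top_iff, ← Subgroup.closure_closure_coe_preimage (k := ({x, y} : Set G)),
      Subgroup.closure_le]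
    intro s hs
    have hs' : (s : G) ∈ ({x, y} : Set G) := hs
    rw [SetLike.mem_coe, MonoidHom.mem_ker]
    apply Subtype.ext
    show ((s ^ 3 : ↥(Subgroup.closure ({x, y} : Set G))) : G) = 1
    rw [Subgroup.coe_pow]
    rcases hs' with h | h
    · rw [h, hx]
    · rw [h, hy]
  intro s hs
  have h1 : (⟨s, hs⟩ : ↥(Subgroup.closure ({x, y} : Set G))) ∈ f.ker := by rw [hker]; trivial
  rw [MonoidHom.mem_ker] at h1
  have h2 := congrArg Subtype.val h1
  exact h2

theorem index_not_dvd [Finite G] (x y : G) (hx : x ^ 3 = 1) (hy : y ^ 3 = 1)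
    (hxy : x * y = y * x) (hx1 : x ≠ 1) (hy1 : y ≠ 1) (hyx : y ≠ x) (hyxx : y ≠ x ^ 2)
    (m : ℕ) (hcard : Nat.card G = 9 * m) (hm : ¬ 3 ∣ m) :
    ¬ 3 ∣ (Subgroup.closure ({x, y} : Set G)).index := by
  set S : Subgroup G := Subgroup.closure ({x, y} : Set G) with hS
  have hp : Fact (Nat.Prime 3) := ⟨by norm_num⟩
  have hpow := pow_three_eq_one_of_mem_closure x y hx hy hxy
  have hpg : IsPGroup 3 S := by
    intro s
    refine ⟨1, ?_⟩
    apply Subtype.ext
    rw [pow_one, Subgroup.coe_pow]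
    exact hpow s.1 s.2
  obtain ⟨n, hn⟩ := IsPGroup.iff_card.1 hpg
  have hxS : x ∈ S := Subgroup.subset_closure (Set.mem_insert x _)
  have hyS : y ∈ S := Subgroup.subset_closure (Set.mem_insert_of_mem x rfl)
  have hzle : Subgroup.zpowers x ≤ S := by
    rw [Subgroup.zpowers_le]
    exact hxS
  have hox : orderOf x = 3 := orderOf_eq_prime hx hx1
  have hynot : y ∉ Subgroup.zpowers x := by
    intro hmem
    obtain ⟨k, hk⟩ := Subgroup.mem_zpowers_iff.1 hmem
    have h3 : x ^ (3 : ℤ) = 1 := by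
      rw [show (3 : ℤ) = ((3 : ℕ) : ℤ) from rfl, zpow_natCast, hx]
    have hk' : x ^ (k % 3) = y := by rw [← zpow_eq_zpow_emod k h3, hk]
    have h0 : 0 ≤ k % 3 := Int.emod_nonneg k (by norm_num)
    have h2 : k % 3 < 3 := Int.emod_lt_of_pos k (by norm_num)
    interval_cases h : k % 3
    · rw [zpow_zero] at hk'
      exact hy1 hk'.symm
    · rw [zpow_one] at hk'
      exact hyx hk'.symm
    · rw [show (2 : ℤ) = ((2 : ℕ) : ℤ) from rfl, zpow_natCast] at hk'
      exact hyxx hk'.symm
  have hn2 : 2 ≤ n := by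
    by_contra hlt
    have hle : Nat.card S ≤ Nat.card (Subgroup.zpowers x) := by
      rw [Nat.card_zpowers, hox, hn]
      have : n ≤ 1 := by omega
      calc 3 ^ n ≤ 3 ^ 1 := Nat.pow_le_pow_right (by norm_num) this
        _ = 3 := by norm_num
    have := Subgroup.eq_of_le_of_card_ge hzle hle
    exact hynot (by rw [this]; exact hyS)
  have hmul := S.index_mul_card
  rw [hcard, hn] at hmul
  obtain ⟨j, rfl⟩ := Nat.exists_eq_add_of_le hn2
  have e : S.index * 3 ^ (2 + j) = 9 * (S.index * 3 ^ j) := by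
    rw [pow_add]
    ring
  rw [e] at hmul
  have h1 : S.index * 3 ^ j = m := by omega
  intro hd
  exact hm (h1 ▸ Dvd.dvd.mul_right hd _)

end Cfsg.Agent.Lib.Helper7.HSM.IdxNine
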