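import Mathlib

/-!
# The index of an elementary abelian subgroup of order `p ^ 2`

If `x, y` are commuting elements with `x ^ p = y ^ p = 1`, `x ≠ 1`, `y ∉ ⟨x⟩` in a finite group of order
`p ^ 2 * m` with `p ∤ m` (`p` prime), then the index of `⟨x, y⟩` is prime to `p`.  Generalises `IdxNine`.
-/

set_option autoImplicit false

namespace Cfsg.Agent.Lib.Helper7.HSM.IdxPSq

variable {G : Type*} [Group G]

theorem pow_eq_one_of_mem_closure (p : ℕ) (x y : G) (hx : x ^ p = 1) (hy : y ^ p = 1)
    (hxy : x * y = y * x) : ∀ s ∈ Subgroup.closure ({x, y} : Set G), s ^ p = 1 := by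
  have hcomm : ∀ a ∈ ({x, y} : Set G), ∀ b ∈ ({x, y} : Set G), a * b = b * a := by
    intro a ha b hb
    rcases ha with rfl | rfl <;> rcases hb with rfl | rfl
    · rfl
    · exact hxy
    · exact hxy.symm
    · rfl
  letI := Subgroup.closureCommGroupOfComm hcomm
  let f : ↥(Subgroup.closure ({x, y} : Set G)) →* ↥(Subgroup.closure ({x, y} : Set G)) :=
    powMonoidHom p
  have hker : f.ker = ⊤ := by
    rw [eq_top_iff, ← Subgroup.closure_closure_coe_preimage (k := ({x, y} : Set G)),
      Subgroup.closure_le]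
    intro s hs
    have hs' : (s : G) ∈ ({x, y} : Set G) := hs
    rw [SetLike.mem_coe, MonoidHom.mem_ker]
    apply Subtype.ext
    show ((s ^ p : ↥(Subgroup.closure ({x, y} : Set G))) : G) = 1
    rw [Subgroup.coe_pow]
    rcases hs' with h | h
    · rw [h, hx]
    · rw [h, hy]
  intro s hs
  have h1 : (⟨s, hs⟩ : ↥(Subgroup.closure ({x, y} : Set G))) ∈ f.ker := by rw [hker]; trivial
  rw [MonoidHom.mem_ker] at h1
  have h2 := congrArg Subtype.val h1
  exact h2

theorem index_not_dvd [Finite G] (p : ℕ) [hp : Fact p.Prime] (x y : G) (hx : x ^ p = 1)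
    (hy : y ^ p = 1) (hxy : x * y = y * x) (hx1 : x ≠ 1) (hynot : y ∉ Subgroup.zpowers x)
    (m : ℕ) (hcard : Nat.card G = p ^ 2 * m) (hm : ¬ p ∣ m) :
    ¬ p ∣ (Subgroup.closure ({x, y} : Set G)).index := by
  set S : Subgroup G := Subgroup.closure ({x, y} : Set G) with hS
  have hpow := pow_eq_one_of_mem_closure p x y hx hy hxy
  have hpg : IsPGroup p S := by
    intro s
    refine ⟨1, ?_⟩
    apply Subtype.ext
    rw [pow_one, Subgroup.coe_pow]
    exact hpow s.1 s.2
  obtain ⟨n, hn⟩ := IsPGroup.iff_card.1 hpg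
  have hxS : x ∈ S := Subgroup.subset_closure (Set.mem_insert x _)
  have hyS : y ∈ S := Subgroup.subset_closure (Set.mem_insert_of_mem x rfl)
  have hzle : Subgroup.zpowers x ≤ S := by
    rw [Subgroup.zpowers_le]
    exact hxS
  have hox : orderOf x = p := orderOf_eq_prime hx hx1
  have hp1 : 1 < p := hp.out.one_lt
  have hn2 : 2 ≤ n := by
    by_contra hlt
    have hle : Nat.card S ≤ Nat.card (Subgroup.zpowers x) := by
      rw [Nat.card_zpowers, hox, hn]
      have : n ≤ 1 := by omega
      calc p ^ n ≤ p ^ 1 := Nat.pow_le_pow_right (by omega) this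
        _ = p := pow_one p
    have := Subgroup.eq_of_le_of_card_ge hzle hle
    exact hynot (by rw [this]; exact hyS)
  have hmul := S.index_mul_card
  rw [hcard, hn] at hmul
  obtain ⟨j, rfl⟩ := Nat.exists_eq_add_of_le hn2
  have e : S.index * p ^ (2 + j) = p ^ 2 * (S.index * p ^ j) := by
    rw [pow_add]
    ring
  rw [e] at hmul
  have hpp : 0 < p ^ 2 := by positivity
  have h1 : S.index * p ^ j = m := Nat.eq_of_mul_eq_mul_left hpp hmul
  intro hd
  exact hm (h1 ▸ Dvd.dvd.mul_right hd _)

end Cfsg.Agent.Lib.Helper7.HSM.IdxPSq
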