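import Cfsg.Agent.Lib.Helper89.SafePres

set_option autoImplicit false
set_option maxRecDepth 1000000
set_option maxHeartbeats 0
set_option Elab.async false

namespace Cfsg.Agent.Lib.Helper7.HSM.L1

open Cfsg.Agent.Lib.Helper89.CosetCert Cfsg.Agent.Lib.Helper89.SafePres

def factB : ℕ := 0x101000200000000020000010001000200000100020100000001000000000200000100020100000001000000

def finB : ℕ := 0x100000000000200020001

def pw : List (ℕ × ℕ) := [(3, 0)]

def srels : List SRel := [].flatten

def rels : List Word := [
  [0, 0, 0]]

def steps0 : List ℕ := [
  4722402512011066867715,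
  108086460314288128,
  144115394772205569,
  180144329230123008,
  216172782651703297,
  252201717109620736,
  288230651567538177]

def steps : List ℕ := [steps0].flatten

def roots : List ℕ := [0, 1, 2]

def cert : Cert := ⟨1, 0, 3, factBig factB, rels, steps, 3, roots, numBig finB⟩

end Cfsg.Agent.Lib.Helper7.HSM.L1
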