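import Cfsg.Agent.Lib.Helper7.HSM.L3Data

set_option autoImplicit false
set_option maxRecDepth 1000000
set_option maxHeartbeats 0
set_option Elab.async false

namespace Cfsg.Agent.Lib.Helper7.HSM.L3

open Cfsg.Agent.Lib.Helper89.CosetCert Cfsg.Agent.Lib.Helper89.SafePres

theorem rels_eq : rels = pw.map (fun q => powWord q.1 q.2) ++ srels.map SRel.word := by decide +kernel

theorem mem_srels {r : SRel} (h : r ∈ srels) : r ∈ srels0 ∨ r ∈ srels1 := by
  unfold srels at h
  simpa [List.mem_flatten, or_assoc] using h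

end Cfsg.Agent.Lib.Helper7.HSM.L3
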