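import Cfsg.Agent.Lib.Helper7.HSM.ModData

set_option autoImplicit false
set_option maxRecDepth 1000000
set_option maxHeartbeats 0
set_option Elab.async false

namespace Cfsg.Agent.Lib.Helper7.HSM.Mod

open Cfsg.Agent.Lib.Helper89.CosetCert Cfsg.Agent.Lib.Helper89.SafePres Cfsg.Agent.Lib.Helper93.BigPerm

def rs8 : List Word := [
  [0, 7, 3, 1, 5, 0, 2, 6, 3, 1, 4, 0, 2, 6, 1, 4],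
  [1, 2, 0, 2, 5, 0, 5, 0, 4, 1, 4, 3, 1, 3, 0, 5],
  [1, 2, 0, 3, 0, 4, 0, 2, 1, 5, 1, 2, 1, 3, 0, 2],
  [1, 2, 1, 2, 4, 2, 1, 6, 0, 3, 5, 3, 0, 3, 0, 7],
  [1, 2, 1, 4, 4, 4, 2, 0, 3, 5, 5, 5, 0, 3, 0, 2],
  [1, 2, 1, 6, 2, 1, 3, 6, 2, 0, 3, 7, 0, 3, 0, 3],
  [1, 2, 1, 6, 6, 6, 2, 0, 3, 7, 7, 7, 0, 3, 0, 2],
  [1, 2, 4, 4, 4, 1, 2, 0, 3, 0, 5, 5, 5, 3, 0, 2],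
  [1, 2, 5, 2, 0, 3, 4, 0, 5, 2, 1, 3, 4, 3, 0, 5],
  [1, 2, 5, 2, 5, 2, 0, 4, 1, 3, 4, 3, 4, 3, 0, 4],
  [1, 2, 6, 2, 0, 3, 6, 0, 7, 2, 1, 3, 7, 3, 0, 3],
  [1, 3, 0, 3, 4, 0, 4, 0, 5, 1, 5, 2, 1, 2, 0, 4],
  [1, 3, 0, 6, 2, 7, 0, 4, 1, 6, 3, 7, 1, 2, 0, 7],
  [1, 3, 1, 3, 6, 6, 6, 0, 7, 7, 7, 2, 0, 2, 0, 3],
  [1, 3, 4, 3, 0, 2, 5, 0, 4, 3, 1, 2, 5, 2, 0, 4],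
  [1, 3, 6, 2, 5, 0, 3, 6, 2, 1, 4, 3, 7, 2, 0, 4],
  [1, 3, 7, 2, 1, 3, 7, 2, 6, 2, 0, 3, 6, 2, 0, 3],
  [1, 4, 0, 2, 6, 6, 6, 2, 7, 7, 7, 3, 1, 5, 0, 3],
  [1, 4, 3, 4, 3, 4, 0, 4, 1, 5, 2, 5, 2, 5, 0, 4],
  [1, 4, 6, 6, 6, 4, 0, 2, 1, 5, 7, 7, 7, 5, 0, 3],
  [1, 5, 7, 4, 4, 7, 5, 6, 4, 6, 5, 5, 6, 4, 0, 5],
  [1, 6, 2, 0, 3, 6, 3, 0, 2, 7, 2, 1, 3, 7, 0, 2],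
  [1, 6, 3, 7, 1, 2, 0, 6, 1, 3, 0, 6, 2, 7, 0, 5],
  [1, 6, 5, 2, 1, 3, 7, 4, 6, 2, 0, 3, 4, 7, 0, 3],
  [1, 6, 5, 6, 2, 0, 3, 4, 2, 1, 3, 7, 4, 7, 0, 3],
  [1, 6, 5, 7, 1, 2, 7, 0, 6, 3, 0, 6, 4, 7, 0, 7],
  [2, 0, 2, 0, 4, 4, 4, 2, 5, 5, 5, 1, 3, 1, 3, 1],
  [2, 0, 2, 4, 2, 1, 2, 0, 3, 0, 3, 5, 3, 1, 3, 0],
  [2, 0, 2, 5, 0, 3, 5, 0, 4, 2, 1, 4, 3, 1, 3, 5],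
  [2, 0, 3, 7, 0, 3, 0, 2, 1, 2, 1, 6, 2, 1, 3, 7],
  [2, 0, 4, 0, 2, 0, 4, 0, 5, 1, 3, 1, 5, 1, 3, 5],
  [2, 0, 4, 0, 2, 1, 5, 2, 4, 0, 3, 1, 5, 1, 3, 0],
  [2, 0, 4, 2, 5, 0, 3, 0, 2, 1, 4, 3, 5, 1, 3, 4],
  [2, 0, 4, 2, 5, 2, 1, 2, 0, 3, 4, 3, 5, 1, 3, 5],
  [2, 1, 2, 0, 4, 1, 4, 0, 5, 0, 5, 1, 3, 0, 3, 5],
  [2, 1, 2, 5, 5, 1, 4, 0, 5, 0, 4, 4, 3, 0, 3, 5],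
  [2, 1, 3, 7, 4, 7, 0, 2, 1, 6, 5, 6, 2, 0, 3, 5],
  [0, 2, 1, 4, 0, 3, 1, 5]]

theorem rs8_ok : X.relsOK rs8 = true := by decide +kernel

end Cfsg.Agent.Lib.Helper7.HSM.Mod
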