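import Mathlib
import Cfsg.Prelude.Def_KGroupFacts

/-!
# No `3`-torsion in the kernel of a stem extension, from a self-centralising `3 × 3`

If `G` has commuting elements `x, y` of order three and an element `n` inverting `x` and
centralising `y`, and the index of `⟨x, y⟩` is prime to three, then the kernel of a stem
extension of `G` has no element of order divisible by three (transfer into the abelian preimage
of `⟨x, y⟩`).
-/

set_option autoImplicit false

namespace Cfsg.Agent.Lib.Helper7.HSM.NoThree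

variable {Γ : Type*} {G : Type*} [Group Γ] [Group G]

/-- if `X * Y = c * Y * X` with `c` central then `X ^ k * Y = c ^ k * Y * X ^ k` -/
theorem pow_mul_comm_of_central (X Y c : Γ) (hc : ∀ g : Γ, c * g = g * c)
    (h : X * Y = c * Y * X) (k : ℕ) : X ^ k * Y = c ^ k * Y * X ^ k := by
  induction k with
  | zero => simp
  | succ k ih =>
    have hck : ∀ g : Γ, c ^ k * g = g * c ^ k := by
      intro g
      induction k with
      | zero => simp
      | succ j ihj =>
        exact (Commute.pow_left (hc g) (j + 1)).eq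
    calc X ^ (k + 1) * Y = X * (X ^ k * Y) := by rw [pow_succ', mul_assoc]
      _ = X * (c ^ k * Y * X ^ k) := by rw [ih]
      _ = c ^ k * (X * Y) * X ^ k := by
          rw [mul_assoc (c ^ k), ← mul_assoc X, ← hck X, mul_assoc, mul_assoc, mul_assoc]
      _ = c ^ k * (c * Y * X) * X ^ k := by rw [h]
      _ = c ^ (k + 1) * Y * X ^ (k + 1) := by
          rw [pow_succ, pow_succ']
          simp only [mul_assoc]

/-- the lifts of `x` and `y` commute -/
theorem lifts_commute (σ : Γ →* G) (hcen : σ.ker ≤ Subgroup.center Γ)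
    (X Y N : Γ) (hx : σ X ^ 3 = 1) (hxy : σ X * σ Y = σ Y * σ X)
    (hnx : σ N * σ X * (σ N)⁻¹ = (σ X)⁻¹) (hny : σ N * σ Y * (σ N)⁻¹ = σ Y) :
    X * Y = Y * X := by
  set c : Γ := X * Y * X⁻¹ * Y⁻¹ with hcdef
  have hck : c ∈ σ.ker := by
    rw [MonoidHom.mem_ker, hcdef, map_mul, map_mul, map_mul, map_inv, map_inv, hxy]
    group
  have hc : ∀ g : Γ, c * g = g * c := fun g =>
    ((Subgroup.mem_center_iff.1 (hcen hck)) g).symm
  have h1 : X * Y = c * Y * X := by rw [hcdef]; group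
  -- `c ^ 3 = 1`
  have hX3 : X ^ 3 ∈ σ.ker := by rw [MonoidHom.mem_ker, map_pow, hx]
  have hX3c : ∀ g : Γ, X ^ 3 * g = g * X ^ 3 := fun g =>
    ((Subgroup.mem_center_iff.1 (hcen hX3)) g).symm
  have hc3 : c ^ 3 = 1 := by
    have h3 := pow_mul_comm_of_central X Y c hc h1 3
    rw [hX3c Y] at h3
    have : Y * X ^ 3 = c ^ 3 * (Y * X ^ 3) := by rw [← mul_assoc]; exact h3
    exact (mul_eq_right.mp this.symm)
  -- `c ^ 2 = 1`
  set a : Γ := X * (N * X * N⁻¹) with hadef
  set b : Γ := Y⁻¹ * (N * Y * N⁻¹) with hbdef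
  have hak : a ∈ σ.ker := by
    rw [MonoidHom.mem_ker, hadef, map_mul, map_mul, map_mul, map_inv, hnx, mul_inv_cancel]
  have hbk : b ∈ σ.ker := by
    rw [MonoidHom.mem_ker, hbdef, map_mul, map_mul, map_mul, map_inv, map_inv, hny, inv_mul_cancel]
  have ha : ∀ g : Γ, a * g = g * a := fun g =>
    ((Subgroup.mem_center_iff.1 (hcen hak)) g).symm
  have hb : ∀ g : Γ, b * g = g * b := fun g =>
    ((Subgroup.mem_center_iff.1 (hcen hbk)) g).symm
  have hNX : N * X * N⁻¹ = X⁻¹ * a := by rw [hadef]; group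
  have hNY : N * Y * N⁻¹ = Y * b := by rw [hbdef]; group
  have hconj : (N * X * N⁻¹) * (N * Y * N⁻¹) = c * (N * Y * N⁻¹) * (N * X * N⁻¹) := by
    have e1 : (N * X * N⁻¹) * (N * Y * N⁻¹) = N * (X * Y) * N⁻¹ := by group
    have e2 : c * (N * Y * N⁻¹) * (N * X * N⁻¹) = N * (c * Y * X) * N⁻¹ := by
      have e3 : N * (c * Y * X) * N⁻¹ = (N * c) * (Y * X * N⁻¹) := by group
      rw [e3, ← hc N]
      group
    rw [e1, e2, h1]
  rw [hNX, hNY] at hconj
  -- `X⁻¹ a Y b = c Y b X⁻¹ a`
  have h2 : X⁻¹ * Y = c * Y * X⁻¹ := by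
    have l : X⁻¹ * a * (Y * b) = (X⁻¹ * Y) * (a * b) := by
      rw [mul_assoc, ← mul_assoc a, ha Y, mul_assoc, ← mul_assoc]
    have r : c * (Y * b) * (X⁻¹ * a) = (c * Y * X⁻¹) * (a * b) := by
      rw [mul_assoc c, mul_assoc Y, ← mul_assoc b, hb X⁻¹, mul_assoc X⁻¹, hb a]
      simp only [mul_assoc]
    rw [l, r] at hconj
    exact mul_right_cancel hconj
  have hc2 : c ^ 2 = 1 := by
    have h3 : Y * X = c * (X * Y) := by
      have e : X * (X⁻¹ * Y) * X = X * (c * Y * X⁻¹) * X := by rw [h2]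
      have l : X * (X⁻¹ * Y) * X = Y * X := by group
      have r : X * (c * Y * X⁻¹) * X = (X * c) * Y := by group
      rw [l, r, ← hc X] at e
      rw [e, mul_assoc]
    rw [h1] at h3
    have : Y * X = c ^ 2 * (Y * X) := by
      rw [pow_two]
      simp only [mul_assoc] at h3 ⊢
      exact h3
    exact (mul_eq_right.mp this.symm)
  have hc1 : c = 1 := by
    have : c = c ^ 3 * (c ^ 2)⁻¹ := by group
    rw [this, hc3, hc2]
    simp
  rw [h1, hc1, one_mul]

/-- **No three-torsion.** -/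
theorem not_three_dvd [Finite Γ] (σ : Γ →* G) (hσ : Cfsg.IsStemExtension σ)
    (x y n : G) (hx : x ^ 3 = 1) (hxy : x * y = y * x)
    (hnx : n * x * n⁻¹ = x⁻¹) (hny : n * y * n⁻¹ = y)
    (hidx : ¬ 3 ∣ (Subgroup.closure {x, y}).index) :
    ∀ z ∈ σ.ker, ¬ 3 ∣ orderOf z := by
  obtain ⟨hsurj, hcen, hcomm⟩ := hσ
  obtain ⟨X, rfl⟩ := hsurj x
  obtain ⟨Y, rfl⟩ := hsurj y
  obtain ⟨N, rfl⟩ := hsurj n
  have hXY := lifts_commute σ hcen X Y N hx hxy hnx hny
  -- the preimage of `⟨x, y⟩`
  set P : Subgroup Γ := (Subgroup.closure {σ X, σ Y}).comap σ with hP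
  have hPeq : P = Subgroup.closure {X, Y} ⊔ σ.ker := by
    rw [hP, ← Subgroup.comap_map_eq, MonoidHom.map_closure, Set.image_pair]
  have hPle : P ≤ Subgroup.closure ({X, Y} ∪ (σ.ker : Set Γ)) := by
    rw [hPeq, Subgroup.closure_union, Subgroup.closure_eq]
  have hgen : ∀ u ∈ ({X, Y} ∪ (σ.ker : Set Γ) : Set Γ), ∀ v ∈ ({X, Y} ∪ (σ.ker : Set Γ) : Set Γ),
      u * v = v * u := by
    intro u hu v hv
    rcases hu with hu | hu
    · rcases hv with hv | hv
      · rcases hu with rfl | rfl <;> rcases hv with rfl | rfl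
        · rfl
        · exact hXY
        · exact hXY.symm
        · rfl
      · exact ((Subgroup.mem_center_iff.1 (hcen hv)) u)
    · exact ((Subgroup.mem_center_iff.1 (hcen hu)) v).symm
  have hPcomm : ∀ u v : P, u * v = v * u := by
    intro u v
    apply Subtype.ext
    have hu := hPle u.2
    have hv := hPle v.2
    letI := Subgroup.closureCommGroupOfComm hgen
    have := mul_comm (⟨u.1, hu⟩ : Subgroup.closure ({X, Y} ∪ (σ.ker : Set Γ)))
      ⟨v.1, hv⟩
    have h4 := congrArg (fun w : Subgroup.closure ({X, Y} ∪ (σ.ker : Set Γ)) => (w : Γ)) this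
    simpa using h4
  letI instP : CommGroup P := { (inferInstance : Group P) with mul_comm := hPcomm }
  intro z hz h3
  have hzc := Subgroup.mem_center_iff.1 (hcen hz)
  have key : ∀ (k : ℕ) (g₀ : Γ), g₀⁻¹ * z ^ k * g₀ ∈ P → g₀⁻¹ * z ^ k * g₀ = z ^ k := by
    intro k g₀ _
    have : g₀ * z ^ k = z ^ k * g₀ := (Commute.pow_right (hzc g₀) k).eq
    rw [mul_assoc, ← this, inv_mul_cancel_left]
  have htr := MonoidHom.transfer_eq_pow (MonoidHom.id P) z key
  have hker : MonoidHom.transfer (MonoidHom.id P) z = 1 := by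
    have hle := Abelianization.commutator_subset_ker (MonoidHom.transfer (MonoidHom.id P))
    exact MonoidHom.mem_ker.1 (hle (hcomm hz))
  rw [hker] at htr
  have hpow : z ^ P.index = 1 := by
    have := congrArg Subtype.val htr
    simpa using this.symm
  have hidxP : P.index = (Subgroup.closure {σ X, σ Y}).index := by
    rw [hP]
    exact Subgroup.index_comap_of_surjective _ hsurj
  rw [hidxP] at hpow
  exact hidx (dvd_trans h3 (orderOf_dvd_of_pow_eq_one hpow))

end Cfsg.Agent.Lib.Helper7.HSM.NoThree
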